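import Cfsg.Agent.H697.Rel.Over

/-!
# Quasisimple groups with an abelian Hall subgroup modulo the centre (helper697, for S4985, S4992)

`qs` : task REL4985-QS of helper726.
-/

set_option autoImplicit false
set_option linter.unusedSectionVars false

namespace Cfsg.Agent.H697.Rel

open Cfsg Cfsg.Agent.Characters.Core Cfsg.Agent.Blocks.Basic Cfsg.Agent.H692.Rel
open Cfsg.Agent.H726.Rel
open scoped ComplexConjugate commutatorElement

universe u

section

variable {T C : Type*} [Group T] [Finite T] [IsSimpleGroup T] [Group C] [Finite C] {σ : C →* T}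

theorem perfect (hna : ¬ IsMulCommutative T) (hσ : IsStemExtension σ) : commutator C = ⊤ := by
  have h1 : (commutator C).map σ = commutator T := by
    rw [commutator_def, commutator_def, Subgroup.map_commutator,
      ← MonoidHom.range_eq_map, MonoidHom.range_eq_top.2 hσ.1]
  have h2 : commutator T = ⊤ := by
    rcases (inferInstance : (commutator T).Normal).eq_bot_or_eq_top with h | h
    · exfalso
      apply hna
      refine ⟨⟨fun a b => ?_⟩⟩
      have h3 : ⁅a, b⁆ ∈ commutator T := Subgroup.commutator_mem_commutator (Subgroup.mem_top a)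
        (Subgroup.mem_top b)
      rw [h, Subgroup.mem_bot, commutatorElement_eq_one_iff_mul_comm] at h3
      exact h3
    · exact h
  rw [eq_top_iff]
  intro c _
  have h3 : σ c ∈ (commutator C).map σ := by rw [h1, h2]; trivial
  obtain ⟨d, hd, hdc⟩ := h3
  have h4 : d⁻¹ * c ∈ σ.ker := by
    rw [MonoidHom.mem_ker, map_mul, map_inv, hdc, inv_mul_cancel]
  have h5 := mul_mem hd (hσ.2.2 h4)
  rwa [mul_inv_cancel_left] at h5

/-- An irreducible character over a nontrivial linear character of the kernel has no nontrivial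
element of `Z(χ)` outside the kernel. -/
theorem norm_ne (hna : ¬ IsMulCommutative T) (hσ : IsStemExtension σ) {ν : σ.ker →* ℂˣ}
    (hν : ν ≠ 1) {n : ℕ} (ρ : Representation ℂ C (Fin n → ℂ)) [hρ : ρ.IsIrreducible]
    (hov : Ov σ.ker ν ρ.character) {x : C} (hx : x ∉ σ.ker) :
    ‖ρ.character x‖ ≠ (Module.finrank ℂ (Fin n → ℂ) : ℝ) := by
  intro h
  obtain ⟨ω, hω⟩ := (Cfsg.Agent.S0138.result ρ x).1 h
  let N : Subgroup C := MonoidHom.ker (ρ : C →* ((Fin n → ℂ) →ₗ[ℂ] (Fin n → ℂ)))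
  have hN : N.Normal := MonoidHom.normal_ker _
  let M : Subgroup C := (Subgroup.center (C ⧸ N)).comap (QuotientGroup.mk' N)
  have hMn : M.Normal := inferInstance
  have hM : ∀ g : C, g ∈ M ↔ ∀ k : C, ρ (k * g) = ρ (g * k) := by
    intro g
    rw [Subgroup.mem_comap, Subgroup.mem_center_iff]
    have key : ∀ a b : C, ((a : C ⧸ N) = (b : C ⧸ N)) ↔ ρ a = ρ b := by
      intro a b
      rw [QuotientGroup.eq]
      show ρ (a⁻¹ * b) = 1 ↔ _
      constructor
      · intro h1
        have h2 : ρ b = ρ (a * (a⁻¹ * b)) := by rw [mul_inv_cancel_left]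
        rw [h2, map_mul, h1, mul_one]
      · intro h1
        rw [map_mul, ← h1, ← map_mul, inv_mul_cancel, map_one]
    constructor
    · intro h1 k
      have h2 := h1 (k : C ⧸ N)
      exact (key _ _).1 h2
    · intro h1 q
      obtain ⟨k, rfl⟩ := QuotientGroup.mk_surjective q
      exact (key _ _).2 (h1 k)
  have hxM : x ∈ M := by
    rw [hM]
    intro k
    rw [map_mul, map_mul, hω]
    ext v
    simp
  have hAM : σ.ker ≤ M := by
    intro a ha
    rw [hM]
    intro k
    rw [Subgroup.mem_center_iff.1 (hσ.2.1 ha) k]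
  have hMtop : M = ⊤ := by
    have h1 : (M.map σ).Normal := hMn.map _ hσ.1
    rcases h1.eq_bot_or_eq_top with h2 | h2
    · exfalso
      apply hx
      have h3 : σ x ∈ M.map σ := ⟨x, hxM, rfl⟩
      rw [h2] at h3
      exact h3
    · rw [eq_top_iff]
      intro c _
      have h3 : σ c ∈ M.map σ := by rw [h2]; trivial
      obtain ⟨d, hd, hdc⟩ := h3
      have h4 : d⁻¹ * c ∈ σ.ker := by
        rw [MonoidHom.mem_ker, map_mul, map_inv, hdc, inv_mul_cancel]
      have h5 := mul_mem hd (hAM h4)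
      rwa [mul_inv_cancel_left] at h5
  have hcomm : commutator C ≤ N := by
    rw [commutator_def, Subgroup.commutator_le]
    intro a _ b _
    have h1 : a ∈ M := by rw [hMtop]; trivial
    have h2 := (hM a).1 h1 b
    show ρ ⁅a, b⁆ = 1
    rw [commutatorElement_def]
    have h3 : ρ (a * b * a⁻¹ * b⁻¹) = ρ (a * b) * ρ (a⁻¹ * b⁻¹) := by
      rw [← map_mul]
      congr 1
      group
    rw [h3, ← h2, ← map_mul]
    have h4 : b * a * (a⁻¹ * b⁻¹) = 1 := by group
    rw [h4, map_one]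
  rw [perfect hna hσ, top_le_iff] at hcomm
  apply hν
  ext z
  have h1 := hov 1 z
  have h2 : ∀ g : C, ρ g = 1 := fun g => by
    have h3 : g ∈ N := by rw [hcomm]; trivial
    exact h3
  have h3 : ρ.character (1 * (z : C)) = ρ.character 1 := by
    show LinearMap.trace ℂ _ (ρ _) = LinearMap.trace ℂ _ (ρ _)
    rw [h2, h2]
  rw [h3] at h1
  have h4 : ρ.character 1 ≠ 0 :=
    isIrr_apply_one_ne_zero (χ := ρ.character) ⟨n, ρ, hρ, rfl⟩
  have h5 : ρ.character 1 * 1 = ρ.character 1 * (ν z : ℂ) := by rw [mul_one]; exact h1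
  exact (mul_left_cancel₀ h4 h5).symm

/-- Burnside: the characters over `ν` vanish on the good elements of the Hall subgroup. -/
theorem van (hna : ¬ IsMulCommutative T) (hσ : IsStemExtension σ) {ν : σ.ker →* ℂˣ}
    (hν : ν ≠ 1) {ω : Set ℕ} (hdeg : AllDeg ω σ.ker ν) {H : Subgroup T}
    (hab : ∀ a ∈ H, ∀ b ∈ H, a * b = b * a) (hidx : PiNum ωᶜ H.index) {x : C} (hx : x ∉ σ.ker)
    (hxH : σ x ∈ H) (hgood : ∀ z ∈ σ.ker, IsConj (x * z) x → z = 1) {χ : C → ℂ}
    (hχ : IsIrrCharacter C χ) (hov : Ov σ.ker ν χ) : χ x = 0 := by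
  obtain ⟨n, ρ, hρ, rfl, hd⟩ := Cfsg.Agent.H596.exists_rep hχ
  have := hρ
  have hle : H.comap σ ≤ Subgroup.centralizer ({x} : Set C) := by
    intro h hh
    rw [Subgroup.mem_centralizer_singleton_iff]
    have h1 : x⁻¹ * (h * x * h⁻¹) ∈ σ.ker := by
      rw [MonoidHom.mem_ker, map_mul, map_mul, map_mul, map_inv, map_inv, hab _ hh _ hxH]
      group
    have h2 := hgood _ h1 (by
      rw [mul_inv_cancel_left]
      exact (isConj_iff.2 ⟨h, rfl⟩ : IsConj x (h * x * h⁻¹)).symm)
    have h3 : h * x * h⁻¹ = x := (inv_mul_eq_one.1 h2).symm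
    calc h * x = (h * x * h⁻¹) * h := by group
      _ = x * h := by rw [h3]
  have hdvd : (Subgroup.centralizer ({x} : Set C)).index ∣ H.index := by
    rw [← Subgroup.index_comap_of_surjective H hσ.1]
    exact Subgroup.index_dvd_of_le hle
  have hcop : Nat.Coprime (Module.finrank ℂ (Fin n → ℂ))
      (Subgroup.centralizer ({x} : Set C)).index := by
    rw [← hd]
    exact (hdeg _ hχ hov).coprime (hidx.of_dvd hdvd)
  rcases Cfsg.Agent.S0142.result ρ x hcop with h | h
  · exact h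
  · exact absurd h (norm_ne hna hσ hν ρ hov hx)

/-- Every element of the Hall subgroup outside the kernel is conjugate to some `x z`, `z ≠ 1`. -/
theorem bad (hna : ¬ IsMulCommutative T) (hσ : IsStemExtension σ) {ν : σ.ker →* ℂˣ}
    (hν : ν ≠ 1) {ω : Set ℕ} (hdeg : AllDeg ω σ.ker ν) {H : Subgroup T}
    (hab : ∀ a ∈ H, ∀ b ∈ H, a * b = b * a) (hidx : PiNum ωᶜ H.index) {x : C} (hx : x ∉ σ.ker)
    (hxH : σ x ∈ H) : ∃ z ∈ σ.ker, z ≠ 1 ∧ IsConj (x * z) x := by
  classical
  have := Fintype.ofFinite C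
  have : Finite (IrrCharacter C) := finite_irr
  have := Fintype.ofFinite (IrrCharacter C)
  have := Fintype.ofFinite σ.ker
  by_contra hcon
  push Not at hcon
  have hgood : ∀ z ∈ σ.ker, IsConj (x * z) x → z = 1 := by
    intro z hz h
    by_contra h1
    exact hcon z hz h1 h
  have h1 := sum_over_self hσ.2.1 ν x hgood
  rw [Finset.sum_eq_zero, mul_zero] at h1
  · have h2 : (Nat.card (Subgroup.centralizer ({x} : Set C)) : ℂ) ≠ 0 := by
      exact_mod_cast Nat.card_pos.ne'
    exact h2 h1.symm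
  · intro χ hχ
    rw [van hna hσ hν hdeg hab hidx hx hxH hgood χ.2 (mem_over.1 hχ), zero_mul]

/-- Every prime divisor of the order of the Hall subgroup divides the order of the kernel. -/
theorem dvd_ker (hna : ¬ IsMulCommutative T) (hσ : IsStemExtension σ) {ν : σ.ker →* ℂˣ}
    (hν : ν ≠ 1) {ω : Set ℕ} (hdeg : AllDeg ω σ.ker ν) {H : Subgroup T}
    (hab : ∀ a ∈ H, ∀ b ∈ H, a * b = b * a) (hidx : PiNum ωᶜ H.index) {s : ℕ} (hs : s.Prime)
    (hsH : s ∣ Nat.card H) : s ∣ Nat.card σ.ker := by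
  have : Fact s.Prime := ⟨hs⟩
  obtain ⟨h, hh⟩ := exists_prime_orderOf_dvd_card' s hsH
  obtain ⟨y, hy⟩ := hσ.1 (h : T)
  have hho : orderOf (σ y) = s := by rw [hy, Subgroup.orderOf_coe, hh]
  -- the `s`-part of `y`
  obtain ⟨e, m, hm, hem⟩ := Nat.exists_eq_pow_mul_and_not_dvd (orderOf_pos y).ne' s hs.one_lt.ne'
  have hx1 : (y ^ m) ^ s ^ e = 1 := by
    rw [← pow_mul, mul_comm, ← hem, pow_orderOf_eq_one]
  have hx : y ^ m ∉ σ.ker := by
    rw [MonoidHom.mem_ker, map_pow]
    intro h1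
    apply hm
    rw [← hho]
    exact orderOf_dvd_of_pow_eq_one h1
  have hxH : σ (y ^ m) ∈ H := by
    rw [map_pow, hy]
    exact pow_mem h.2 _
  obtain ⟨z, hz, hz1, hc⟩ := bad hna hσ hν hdeg hab hidx hx hxH
  have hz2 : z ^ s ^ e = 1 := by
    obtain ⟨g, hg⟩ := isConj_iff.1 hc.symm
    have h1 : (y ^ m * z) ^ s ^ e = 1 := by
      rw [← hg, conj_pow, hx1, mul_one, mul_inv_cancel]
    have h2 : Commute (y ^ m) z := Subgroup.mem_center_iff.1 (hσ.2.1 hz) _
    rw [h2.mul_pow, hx1, one_mul] at h1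
    exact h1
  have h3 : orderOf z ∣ s ^ e := orderOf_dvd_of_pow_eq_one hz2
  obtain ⟨k, -, hk⟩ := (Nat.dvd_prime_pow hs).1 h3
  have hk0 : k ≠ 0 := by
    rintro rfl
    rw [pow_zero] at hk
    exact hz1 (orderOf_eq_one_iff.1 hk)
  have h4 : s ∣ orderOf z := by
    rw [hk]
    exact dvd_pow_self s hk0
  refine h4.trans ?_
  have h5 := orderOf_dvd_natCard (⟨z, hz⟩ : σ.ker)
  rwa [← Subgroup.orderOf_coe] at h5

end

/-- The Sylow subgroups for the primes of an abelian Hall subgroup are abelian. -/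
theorem abSylow {T : Type*} [Group T] [Finite T] {ω : Set ℕ} {H : Subgroup T}
    (hab : ∀ a ∈ H, ∀ b ∈ H, a * b = b * a) (hcard : PiNum ω (Nat.card H))
    (hidx : PiNum ωᶜ H.index) {s : ℕ} (hs : s.Prime) (hsH : s ∣ Nat.card H) : AbSylow s T := by
  have : Fact s.Prime := ⟨hs⟩
  have hsω : s ∈ ω := hcard s hs hsH
  obtain ⟨Q⟩ : Nonempty (Sylow s H) := inferInstance
  have hQ : IsPGroup s ↥((Q : Subgroup H).map H.subtype) := Q.isPGroup'.map _
  have hQi : ¬ s ∣ ((Q : Subgroup H).map H.subtype).index := by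
    rw [Subgroup.index_map_of_injective _ H.subtype_injective, Subgroup.range_subtype,
      hs.dvd_mul]
    rintro (h | h)
    · exact Q.not_dvd_index h
    · exact hidx s hs h hsω
  let P0 : Sylow s T := hQ.toSylow hQi
  intro P a ha b hb
  obtain ⟨g, hg⟩ := MulAction.exists_smul_eq T P0 P
  have key : ∀ c ∈ (P : Subgroup T), g⁻¹ * c * g ∈ H := by
    intro c hc
    rw [← hg, Sylow.coe_subgroup_smul, Subgroup.mem_pointwise_smul_iff_inv_smul_mem] at hc
    have h1 : g⁻¹ * c * g ∈ ((Q : Subgroup H).map H.subtype) := by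
      have h2 : (MulAut.conj g)⁻¹ • c ∈ (P0 : Subgroup T) := hc
      rw [MulAut.smul_def, MulAut.conj_inv_apply] at h2
      exact h2
    obtain ⟨d, -, hd⟩ := h1
    rw [← hd]
    exact d.2
  have h1 := hab _ (key a ha) _ (key b hb)
  have h2 : a * b = g * ((g⁻¹ * a * g) * (g⁻¹ * b * g)) * g⁻¹ := by group
  rw [h2, h1]
  group

/-- Two injective linear characters of a finite group are Galois conjugate. -/
theorem exists_galois {A : Type*} [Group A] [Finite A] {ν ν' : A →* ℂˣ}
    (h : Function.Injective ν) (h' : Function.Injective ν') :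
    ∃ τ : ℂ ≃+* ℂ, ∀ a : A, τ (ν a) = ν' a := by
  have hcyc : IsCyclic A := isCyclic_of_injective_ringHom ((Units.coeHom ℂ).comp ν)
    (Units.val_injective.comp h)
  obtain ⟨a, ha⟩ := hcyc.exists_generator
  have hn0 : Nat.card A ≠ 0 := Nat.card_pos.ne'
  have : NeZero (Nat.card A) := ⟨hn0⟩
  have hao : orderOf a = Nat.card A := orderOf_eq_card_of_forall_mem_zpowers ha
  have h1 : IsPrimitiveRoot ((ν a : ℂ)) (Nat.card A) := by
    rw [IsPrimitiveRoot.coe_units_iff, ← hao, ← orderOf_injective ν h a]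
    exact IsPrimitiveRoot.orderOf _
  have h2 : IsPrimitiveRoot ((ν' a : ℂ)) (Nat.card A) := by
    rw [IsPrimitiveRoot.coe_units_iff, ← hao, ← orderOf_injective ν' h' a]
    exact IsPrimitiveRoot.orderOf _
  obtain ⟨j, -, hj, hj2⟩ := h1.isPrimitiveRoot_iff.1 h2
  obtain ⟨τ, hτ⟩ := Cfsg.Agent.Characters.GaloisBasic.exists_ringEquiv_pow hn0 hj
  refine ⟨τ, fun b => ?_⟩
  have h3 : (ν b : ℂ) ^ Nat.card A = 1 := by
    rw [← Units.val_pow_eq_pow_val, ← map_pow, pow_card_eq_one', map_one, Units.val_one]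
  rw [hτ _ h3]
  obtain ⟨i, rfl⟩ := (mem_powers_iff_mem_zpowers.2 (ha b) : b ∈ Submonoid.powers a)
  simp only [map_pow, Units.val_pow_eq_pow_val]
  rw [← hj2, ← pow_mul, ← pow_mul, mul_comm]

end Cfsg.Agent.H697.Rel
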