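import Cfsg.Agent.H697.Rel.Qs

/-!
# The bound for the classes of a simple group (helper697, for S4985, S4992)

* `le_sq` : if all degrees over a faithful character of the kernel divide `m` then `|T| ≤ m² |C_T(x)|` for every
  element `x` of prime power order `r ^ k`, `r` prime to `m`;
* `qs` : task REL4985-QS of helper726.
-/

set_option autoImplicit false
set_option linter.unusedSectionVars false

namespace Cfsg.Agent.H697.Rel

open Cfsg Cfsg.Agent.Characters.Core Cfsg.Agent.Blocks.Basic Cfsg.Agent.H692.Rel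
open Cfsg.Agent.H726.Rel
open scoped ComplexConjugate commutatorElement

universe u

section

variable {T C : Type*} [Group T] [Finite T] [Group C] [Finite C] {σ : C →* T}

/-- An `r`-element over an `r`-element. -/
theorem exists_lift (hs : Function.Surjective σ) {r k : ℕ} (hr : r.Prime) {x : T}
    (hx : orderOf x = r ^ k) : ∃ y : C, σ y = x ∧ ∃ j : ℕ, orderOf y = r ^ j := by
  obtain ⟨g, rfl⟩ := hs x
  obtain ⟨e, m, hm, hem⟩ := Nat.exists_eq_pow_mul_and_not_dvd (orderOf_pos g).ne' r hr.one_lt.ne'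
  have hcop : m.Coprime (r ^ e) :=
    (Nat.Coprime.pow_left e ((Nat.Prime.coprime_iff_not_dvd hr).2 hm)).symm
  have hke : r ^ k ∣ r ^ e := by
    have h1 : orderOf (σ g) ∣ orderOf g := orderOf_map_dvd σ g
    rw [hx, hem] at h1
    exact (Nat.Coprime.pow_left k ((Nat.Prime.coprime_iff_not_dvd hr).2 hm)).dvd_of_dvd_mul_right h1
  obtain ⟨c, hc1, hc2⟩ := Nat.chineseRemainder hcop.symm 1 0
  refine ⟨g ^ c, ?_, ?_⟩
  · rw [map_pow]
    conv_rhs => rw [← pow_one (σ g)]
    rw [pow_eq_pow_iff_modEq, hx]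
    exact hc1.of_dvd hke
  · have h1 : (g ^ c) ^ r ^ e = 1 := by
      obtain ⟨d, hd⟩ := (Nat.modEq_zero_iff_dvd.1 hc2)
      rw [hd, ← pow_mul]
      have h2 : m * d * r ^ e = orderOf g * d := by rw [hem]; ring
      rw [h2, pow_mul, pow_orderOf_eq_one, one_pow]
    obtain ⟨j, -, hj⟩ := (Nat.dvd_prime_pow hr).1 (orderOf_dvd_of_pow_eq_one h1)
    exact ⟨j, hj⟩

theorem mu_unique {Z : Subgroup C} {l m : Z →* ℂˣ} {χ : C → ℂ} (hχ : IsIrrCharacter C χ)
    (hl : Ov Z l χ) (hm : Ov Z m χ) : l = m := by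
  ext z
  have h1 := hl 1 z
  rw [hm 1 z] at h1
  exact (mul_left_cancel₀ (isIrr_apply_one_ne_zero hχ) h1).symm

theorem le_sq (hs : Function.Surjective σ) (hc : σ.ker ≤ Subgroup.center C)
    {ν : σ.ker →* ℂˣ} (hν : Function.Injective ν) {m : ℕ}
    (hdeg : ∀ χ : C → ℂ, IsIrrCharacter C χ → Ov σ.ker ν χ → charDegree χ ∣ m) (hm : 0 < m)
    {r k : ℕ} (hr : r.Prime) (hrm : ¬ r ∣ m) {x : T} (hx : orderOf x = r ^ k) :
    Nat.card T ≤ m ^ 2 * Nat.card (Subgroup.centralizer ({x} : Set T)) := by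
  classical
  have := Fintype.ofFinite C
  have : Finite (IrrCharacter C) := finite_irr
  have := Fintype.ofFinite (IrrCharacter C)
  have := Fintype.ofFinite σ.ker
  have : Fact r.Prime := ⟨hr⟩
  obtain ⟨y, rfl, j, hj⟩ := exists_lift hs hr hx
  let X : Finset (IrrCharacter C) := Finset.univ.filter fun χ =>
    ∃ l : σ.ker →* ℂˣ, Function.Injective l ∧ Ov σ.ker l (χ : C → ℂ)
  have hX : ∀ χ : IrrCharacter C, χ ∈ X ↔
      ∃ l : σ.ker →* ℂˣ, Function.Injective l ∧ Ov σ.ker l (χ : C → ℂ) := fun χ => by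
    rw [Finset.mem_filter]
    exact ⟨fun h => h.2, fun h => ⟨Finset.mem_univ _, h⟩⟩
  -- the degrees and the values at `y`
  have hprop : ∀ χ ∈ X, charDegree (χ : C → ℂ) ∣ m ∧ (χ : C → ℂ) y ≠ 0 := by
    intro χ hχ
    obtain ⟨l, hl, hov⟩ := (hX χ).1 hχ
    obtain ⟨τ, hτ⟩ := exists_galois hν hl
    have h1 : IsIrrCharacter C (fun g => τ.symm ((χ : C → ℂ) g)) :=
      Cfsg.Agent.Characters.GaloisIrr.isIrr_map τ.symm χ.2
    have h2 : Ov σ.ker ν (fun g => τ.symm ((χ : C → ℂ) g)) := by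
      intro g z
      show τ.symm _ = τ.symm _ * _
      rw [hov g z, map_mul, ← hτ z, RingEquiv.symm_apply_apply]
    have h3 : charDegree (fun g => τ.symm ((χ : C → ℂ) g)) = charDegree (χ : C → ℂ) := by
      refine charDegree_of_eq ?_
      rw [irr_one_eq_charDegree χ.2, map_natCast]
    have h4 := hdeg _ h1 h2
    rw [h3] at h4
    refine ⟨h4, fun h0 => hrm ?_⟩
    have h5 := Cfsg.Agent.S4558.result r _ (isIrr_isCharacter h1) y ⟨j, hj⟩ (by
      show τ.symm _ = 0
      rw [h0, map_zero])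
    rw [h3] at h5
    exact h5.trans h4
  -- the product of the values
  set P : ℂ := ∏ χ ∈ X, (χ : C → ℂ) y with hP
  have hP0 : P ≠ 0 := Finset.prod_ne_zero_iff.mpr fun χ hχ => (hprop χ hχ).2
  have hPint : IsIntegral ℤ P := by
    refine IsIntegral.prod _ fun χ _ => ?_
    exact Cfsg.Agent.Characters.GaloisBasic.isIntegral_apply (isIrr_isCharacter χ.2) y
  have hfix : ∀ τ : ℂ ≃+* ℂ, τ P = P := by
    intro τ
    rw [hP, map_prod]
    let f : IrrCharacter C → IrrCharacter C := fun χ =>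
      ⟨fun g => τ ((χ : C → ℂ) g), Cfsg.Agent.Characters.GaloisIrr.isIrr_map τ χ.2⟩
    have hf : Function.Injective f := by
      intro χ ψ h
      apply Subtype.ext
      funext g
      have h1 := congrFun (congrArg Subtype.val h) g
      exact τ.injective h1
    have hfX : ∀ χ ∈ X, f χ ∈ X := by
      intro χ hχ
      obtain ⟨l, hl, hov⟩ := (hX χ).1 hχ
      refine (hX _).2 ⟨(Units.map (τ : ℂ →* ℂ)).comp l, ?_, ?_⟩
      · exact (Units.map_injective τ.injective).comp hl
      · intro g z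
        show τ _ = τ _ * τ _
        rw [hov g z, map_mul]
    have himg : X.image f = X := by
      apply Finset.eq_of_subset_of_card_le
      · intro ψ hψ
        obtain ⟨χ, hχ, rfl⟩ := Finset.mem_image.1 hψ
        exact hfX χ hχ
      · rw [Finset.card_image_of_injective _ hf]
    conv_rhs => rw [← himg, Finset.prod_image (fun a _ b _ h => hf h)]
  obtain ⟨n, hn⟩ := Cfsg.Agent.Characters.GaloisBasic.exists_int_of_isIntegral hPint
    (Cfsg.Agent.Characters.GaloisBasic.exists_rat_of_forall_ringEquiv (hPint.tower_top) hfix)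
  have hn0 : n ≠ 0 := by
    rintro rfl
    exact hP0 (by rw [hn]; simp)
  have hPnorm : 1 ≤ ‖P‖ := by
    rw [hn, Complex.norm_intCast]
    exact_mod_cast Int.one_le_abs hn0
  have hpos : ∀ χ ∈ X, 0 < ‖(χ : C → ℂ) y‖ ^ 2 := fun χ hχ => by
    have := norm_pos_iff.mpr (hprop χ hχ).2
    positivity
  have hAG : (X.card : ℝ) ≤ ∑ χ ∈ X, ‖(χ : C → ℂ) y‖ ^ 2 := by
    have h1 : ∑ χ ∈ X, (Real.log (‖(χ : C → ℂ) y‖ ^ 2) + 1) ≤
        ∑ χ ∈ X, ‖(χ : C → ℂ) y‖ ^ 2 := by
      refine Finset.sum_le_sum fun g hg => ?_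
      have := Real.log_le_sub_one_of_pos (hpos g hg)
      linarith
    have h2 : 0 ≤ ∑ χ ∈ X, Real.log (‖(χ : C → ℂ) y‖ ^ 2) := by
      rw [← Real.log_prod (fun g hg => (hpos g hg).ne'), Finset.prod_pow, ← norm_prod]
      apply Real.log_nonneg
      exact one_le_pow₀ hPnorm
    rw [Finset.sum_add_distrib, Finset.sum_const, nsmul_eq_mul, mul_one] at h1
    linarith
  -- the fibres over the characters of the kernel
  choose μ hμ using fun χ : IrrCharacter C => exists_mu (Z := σ.ker) hc χ.2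
  let N : Finset (σ.ker →* ℂˣ) := X.image μ
  have hfib : ∀ l ∈ N, X.filter (fun χ => μ χ = l) = irrOver σ.ker l := by
    intro l hl
    obtain ⟨χ, hχ, rfl⟩ := Finset.mem_image.1 hl
    obtain ⟨l', hl', hov⟩ := (hX χ).1 hχ
    have h1 : l' = μ χ := mu_unique χ.2 hov (hμ χ)
    subst h1
    ext ψ
    rw [Finset.mem_filter, mem_over]
    constructor
    · rintro ⟨-, h2⟩
      rw [← h2]
      exact hμ ψ
    · intro h2
      exact ⟨(hX ψ).2 ⟨_, hl', h2⟩, mu_unique ψ.2 (hμ ψ) h2⟩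
  have hmap : ∀ χ ∈ X, μ χ ∈ N := fun χ hχ => Finset.mem_image_of_mem μ hχ
  have hS1 : ∑ χ ∈ X, ‖(χ : C → ℂ) y‖ ^ 2 ≤
      N.card * (Nat.card (Subgroup.centralizer ({σ y} : Set T)) : ℝ) := by
    rw [← Finset.sum_fiberwise_of_maps_to hmap, ← nsmul_eq_mul, ← Finset.sum_const]
    refine Finset.sum_le_sum fun l hl => ?_
    rw [hfib l hl]
    exact sum_norm_le hs hc l y
  have hS2 : ∑ χ ∈ X, charDegree (χ : C → ℂ) ^ 2 = N.card * Nat.card T := by
    rw [← Finset.sum_fiberwise_of_maps_to hmap, ← smul_eq_mul, ← Finset.sum_const]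
    refine Finset.sum_congr rfl fun l hl => ?_
    rw [hfib l hl]
    exact sum_degree hs hc l
  have hS3 : ∑ χ ∈ X, charDegree (χ : C → ℂ) ^ 2 ≤ X.card * m ^ 2 := by
    rw [← smul_eq_mul, ← Finset.sum_const]
    refine Finset.sum_le_sum fun χ hχ => ?_
    exact Nat.pow_le_pow_left (Nat.le_of_dvd hm (hprop χ hχ).1) 2
  have hN : 0 < N.card := by
    have h1 := sum_degree hs hc ν
    have h2 : (irrOver σ.ker ν).Nonempty := by
      rw [Finset.nonempty_iff_ne_empty]
      intro h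
      rw [h, Finset.sum_empty] at h1
      exact (Nat.card_pos (α := T)).ne h1
    obtain ⟨χ, hχ⟩ := h2
    exact Finset.card_pos.2 ⟨μ χ, hmap χ ((hX χ).2 ⟨ν, hν, mem_over.1 hχ⟩)⟩
  have h1 : (N.card : ℝ) * Nat.card T ≤
      N.card * ((m : ℝ) ^ 2 * Nat.card (Subgroup.centralizer ({σ y} : Set T))) := by
    have h2 : ((N.card * Nat.card T : ℕ) : ℝ) ≤ ((X.card * m ^ 2 : ℕ) : ℝ) := by
      exact_mod_cast (hS2 ▸ hS3 : N.card * Nat.card T ≤ X.card * m ^ 2)
    push_cast at h2
    have h3 : (X.card : ℝ) * (m : ℝ) ^ 2 ≤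
        (N.card * (Nat.card (Subgroup.centralizer ({σ y} : Set T)) : ℝ)) * (m : ℝ) ^ 2 :=
      mul_le_mul_of_nonneg_right (hAG.trans hS1) (by positivity)
    linarith
  have h2 : (Nat.card T : ℝ) ≤
      ((m : ℝ) ^ 2 * Nat.card (Subgroup.centralizer ({σ y} : Set T))) :=
    le_of_mul_le_mul_left h1 (by exact_mod_cast hN)
  exact_mod_cast h2

end

/-- **REL4985-QS.** -/
theorem qs (hrows : Rows.{u}) {T C : Type u} [Group T] [Finite T] [IsSimpleGroup T] [Group C]
    [Finite C] (hna : ¬ IsMulCommutative T) {σ : C →* T} (hσ : Cfsg.IsStemExtension σ)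
    {ν : σ.ker →* ℂˣ} (hν : Function.Injective ν) (hne : σ.ker ≠ ⊥) {ω : Set ℕ}
    (hZ : PiNum ω (Nat.card σ.ker)) (hdeg : AllDeg ω σ.ker ν) (hH : AbHall ω T) : False := by
  obtain ⟨H, hab, hcard, hidx⟩ := hH
  have hν1 : ν ≠ 1 := by
    rintro rfl
    apply hne
    rw [eq_bot_iff]
    intro z hz
    have h1 := @hν ⟨z, hz⟩ 1 rfl
    exact congrArg Subtype.val h1
  have hmul := H.card_mul_index
  have hi0 : H.index ≠ 0 := Subgroup.index_ne_zero_of_finite
  -- the degrees divide the order of the Hall subgroup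
  have hdvd : ∀ χ : C → ℂ, IsIrrCharacter C χ → Ov σ.ker ν χ → charDegree χ ∣ Nat.card H := by
    intro χ hχ hov
    have h1 := Cfsg.Agent.H596.charDegree_dvd_index hχ σ.ker (fun a ha b _ =>
      (Subgroup.mem_center_iff.1 (hσ.2.1 ha) b).symm)
    rw [Subgroup.index_ker, MonoidHom.range_eq_top.2 hσ.1, Subgroup.card_top, ← hmul] at h1
    exact ((hdeg χ hχ hov).coprime hidx).dvd_of_dvd_mul_right h1
  have hker : ∀ s : ℕ, s.Prime → s ∣ Nat.card H → s ∣ Nat.card σ.ker := fun s hs hsH =>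
    dvd_ker hna hσ hν1 hdeg hab hidx hs hsH
  have hsyl : ∀ s : ℕ, s.Prime → s ∣ Nat.card H → AbSylow s T := fun s hs hsH =>
    abSylow hab hcard hidx hs hsH
  -- the numbers
  have hfin : ∀ p : ℕ, p.Prime → p ∣ Nat.card H → (∀ q : ℕ, q.Prime → q ∣ Nat.card H → q = p) →
      BigClass p T → False := by
    intro p hp hpH huniq hbig
    have h1 : Nat.card H = p ^ (Nat.card H).primeFactorsList.length :=
      Nat.eq_prime_pow_of_unique_prime_dvd Nat.card_pos.ne' (fun {d} hd hdd => huniq d hd hdd)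
    have h2 : (Nat.card T).factorization p = (Nat.card H).primeFactorsList.length := by
      have h3 : ¬ p ∣ H.index := fun h => hidx p hp h (hcard p hp hpH)
      rw [← hmul, Nat.factorization_mul Nat.card_pos.ne' hi0, Finsupp.add_apply,
        Nat.factorization_eq_zero_of_not_dvd h3, add_zero]
      conv_lhs => rw [h1]
      rw [hp.factorization_pow, Finsupp.single_eq_same]
    obtain ⟨x, r, k, hr, hrp, -, hx, hlt⟩ := hbig
    rw [h2, ← h1] at hlt
    have h4 : ¬ r ∣ Nat.card H := fun h => hrp (huniq r hr h)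
    have h5 := le_sq hσ.1 hσ.2.1 hν hdvd Nat.card_pos hr h4 hx
    omega
  by_cases h2 : 2 ∣ Nat.card H
  · obtain ⟨⟨k, hk⟩, hbig⟩ := hrows.two T C σ hna hσ (hker 2 Nat.prime_two h2)
      (hsyl 2 Nat.prime_two h2)
    refine hfin 2 Nat.prime_two h2 (fun q hq hqH => ?_) hbig
    have h3 := hker q hq hqH
    rw [hk] at h3
    exact (Nat.prime_dvd_prime_iff_eq hq Nat.prime_two).1 (hq.dvd_of_dvd_pow h3)
  · have hodd : ∀ q : ℕ, q.Prime → q ∣ Nat.card H → q = 3 ∧ BigClass 3 T := by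
      intro q hq hqH
      have hq2 : q ≠ 2 := by
        rintro rfl
        exact h2 hqH
      exact hrows.odd T C σ hna hσ q hq hq2 (hker q hq hqH) (hsyl q hq hqH)
    by_cases h1 : Nat.card H = 1
    · -- all characters over `ν` are linear
      have hT : Nat.card T ≠ 1 := Finite.one_lt_card.ne'
      obtain ⟨r, hr, hrT⟩ := Nat.exists_prime_and_dvd hT
      have : Fact r.Prime := ⟨hr⟩
      obtain ⟨x, hx⟩ := exists_prime_orderOf_dvd_card' r hrT
      have h3 := le_sq hσ.1 hσ.2.1 hν hdvd Nat.card_pos hr (by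
        rw [h1]
        exact fun h => hr.one_lt.ne' (Nat.dvd_one.1 h)) (k := 1) (x := x) (by rw [hx, pow_one])
      rw [h1, one_pow, one_mul] at h3
      have h4 : Subgroup.centralizer ({x} : Set T) = ⊤ := Subgroup.eq_top_of_le_card _ h3
      have h5 : x ∈ Subgroup.center T := by
        rw [Subgroup.mem_center_iff]
        intro g
        have h6 : g ∈ Subgroup.centralizer ({x} : Set T) := by rw [h4]; trivial
        exact Subgroup.mem_centralizer_singleton_iff.1 h6
      rcases (inferInstance : (Subgroup.center T).Normal).eq_bot_or_eq_top with h6 | h6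
      · rw [h6, Subgroup.mem_bot] at h5
        rw [h5, orderOf_one] at hx
        exact hr.one_lt.ne hx
      · apply hna
        refine ⟨⟨fun a b => ?_⟩⟩
        have h7 : a ∈ Subgroup.center T := by rw [h6]; trivial
        exact (Subgroup.mem_center_iff.1 h7 b).symm
    · obtain ⟨q, hq, hqH⟩ := Nat.exists_prime_and_dvd h1
      obtain ⟨h3, hbig⟩ := hodd q hq hqH
      subst h3
      exact hfin 3 hq hqH (fun q hq hqH => (hodd q hq hqH).1) hbig

end Cfsg.Agent.H697.Rel
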